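import Groth.Agent.Lib.H15.PointDual.Main
import Groth.Agent.Lib.RG.GeomComp
import Groth.Agent.Lib.AffineCompl.Dim
import Groth.Agent.Lib.WeilExt.Basic

/-!
# The unit point of an abelian variety
-/

set_option autoImplicit false
set_option linter.style.haveILetI false
universe u

open CategoryTheory CategoryTheory.Limits MonoidalCategory CartesianMonoidalCategory MonObj AlgebraicGeometry

attribute [local instance] HasDerivedCategory.standard

namespace Groth.Agent.Lib.H15.PointDual.AV

open Groth.Agent.Lib Groth.Agent.H83.Duality

variable {k : Type u} [Field k] (A : Over (Spec (CommRingCat.of k))) [GrpObj A] [IsProper A.hom]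
  [Smooth A.hom] [GeometricallyConnected A.hom]

theorem facts (g : ℕ) (hg : topologicalKrullDim ↥A.left = g) :
    IsNoetherian A.left ∧ Models.IsRegularScheme A.left ∧ IsClosedImmersion η[A].left ∧
      ∀ x : A.left, IsClosed ({x} : Set A.left) → ringKrullDim (A.left.presheaf.stalk x) = g := by
  haveI : IsLocallyNoetherian A.left := LocallyOfFiniteType.isLocallyNoetherian A.hom
  haveI : CompactSpace A.left := QuasiCompact.compactSpace_of_compactSpace A.hom
  haveI : IsNoetherian A.left := {}
  haveI : ConnectedSpace A.left := GeometricallyConnected.connectedSpace_of_subsingleton (f := A.hom)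
  haveI := RG.GeomComp.isIntegral_of_smooth_connected A.hom
  refine ⟨inferInstance, fun x => WeilExt.Basic.isRegularLocalRing_stalk A.hom x, ?_, fun x hx => ?_⟩
  · haveI : IsClosedImmersion (η[A].left ≫ A.hom) := by
      rw [Over.w η[A]]
      exact inferInstanceAs (IsClosedImmersion (𝟙 (Spec (CommRingCat.of k))))
    exact IsClosedImmersion.of_comp η[A].left A.hom
  · rw [AffineCompl.Dim.ringKrullDim_stalk_of_isClosed A.hom hx, hg]

end Groth.Agent.Lib.H15.PointDual.AV
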