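import Groth.Agent.Lib.H15.PointDual.Main
import Groth.Agent.Lib.ClSub.Basis
import Mathlib.Algebra.Homology.DerivedCategory.SingleTriangle
import Mathlib.Algebra.Homology.DerivedCategory.HomologySequence

/-!
# The dual of the ideal of a rational point
-/

set_option autoImplicit false
set_option linter.style.haveILetI false
set_option linter.unusedSectionVars false

universe u

open CategoryTheory CategoryTheory.Limits CategoryTheory.Pretriangulated AlgebraicGeometry DerivedCategory Opposite

attribute [local instance] HasDerivedCategory.standard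

namespace Groth.Agent.Lib.H15.PointDual

open Groth.Agent.Lib Groth.Agent.Lib.DerivedOX Groth.Agent.H83.Duality

variable {X : Scheme.{u}}

/-- The dual of the structure module is itself. -/
theorem nonempty_dual_O (r : Res X) :
    Nonempty ((dual r).obj (op (DCoh.inD X (Coh.structureModule X))) ≅ DCoh.inD X (Coh.structureModule X)) := by
  haveI := r.qis
  let e : DCoh.inD X (Coh.structureModule X) ≅ DerivedCategory.Q.obj (DualFree.one X) :=
    (DerivedCategory.singleFunctorIsoCompQ X.Modules 0).app _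
  exact ⟨(dual r).mapIso e.symm.op ≪≫ (dualFac r).app (op _) ≪≫
    DerivedCategory.Q.mapIso (DualFree.hcOneIso.app r.J) ≪≫ (asIso (DerivedCategory.Q.map r.ι)).symm ≪≫ e.symm⟩

theorem isZero_HD_single {C : Type*} [Category C] [Abelian C] [HasDerivedCategory C] (M : C) (m n : ℤ)
    (h : n ≠ m) : IsZero ((homologyFunctor C n).obj ((singleFunctor C m).obj M)) := by
  rcases lt_or_gt_of_ne h with h | h
  · exact isZero_of_isGE ((singleFunctor C m).obj M) m n h
  · exact isZero_of_isLE ((singleFunctor C m).obj M) m n h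

variable {k : Type u} [Field k] (i : Spec (CommRingCat.of k) ⟶ X) [IsClosedImmersion i]

/-- `RHom(I, O)` for the ideal `I` of a rational point. -/
theorem main_ideal [IsNoetherian X] (g : ℕ) (hg : 2 ≤ g)
    (hd : ∀ x : X, IsClosed ({x} : Set X) → ringKrullDim (X.presheaf.stalk x) = g)
    (hreg : Models.IsRegularScheme X) (r : Res X) :
    Nonempty (DCoh.HD ((dual r).obj (op (DCoh.inD X (kernel (ClSub.unitToPush i))))) 0 ≅ Coh.structureModule X) ∧
    Nonempty (DCoh.HD ((dual r).obj (op (DCoh.inD X (kernel (ClSub.unitToPush i))))) ((g : ℤ) - 1) ≅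
      (Scheme.Modules.pushforward i).obj (Coh.structureModule _)) ∧
    ∀ p : ℤ, p ≠ 0 → p ≠ (g : ℤ) - 1 →
      IsZero (DCoh.HD ((dual r).obj (op (DCoh.inD X (kernel (ClSub.unitToPush i))))) p) := by
  obtain ⟨hz, ⟨eg⟩⟩ := main i g hd hreg r
  obtain ⟨eO⟩ := nonempty_dual_O r
  haveI : Epi (ClSub.unitToPush i) :=
    ClSub.Basis.epi_of_surjective_affine _ fun U => i.app_surjective U.1 U.2
  let S := ShortComplex.mk (kernel.ι (ClSub.unitToPush i)) (ClSub.unitToPush i) (kernel.condition _)
  have hS : S.ShortExact :=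
    { exact := ShortComplex.exact_of_f_is_kernel _ (kernelIsKernel _) }
  obtain ⟨δ, hT⟩ := exists_dual_triangle r hS.singleTriangle hS.singleTriangle_distinguished
  let T := Triangle.mk ((dual r).map hS.singleTriangle.mor₂.op) ((dual r).map hS.singleTriangle.mor₁.op) δ
  have h₁ : ∀ n : ℤ, n ≠ g → IsZero ((homologyFunctor X.Modules n).obj T.obj₁) := hz
  have h₂ : ∀ n : ℤ, n ≠ 0 → IsZero ((homologyFunctor X.Modules n).obj T.obj₂) := fun n hn =>
    (isZero_HD_single _ 0 n hn).of_iso ((homologyFunctor _ n).mapIso eO)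
  let e₂ : (homologyFunctor X.Modules 0).obj T.obj₂ ≅ Coh.structureModule X :=
    (homologyFunctor _ 0).mapIso eO ≪≫ (singleFunctorCompHomologyFunctorIso _ 0).app _
  refine ⟨⟨?_⟩, ⟨?_⟩, fun p hp0 hpg => ?_⟩
  · haveI : Mono ((homologyFunctor X.Modules 0).map T.mor₂) :=
      (HomologySequence.mono_homologyMap_mor₂_iff T hT 0).2 ((h₁ 0 (by omega)).eq_of_src _ _)
    haveI : Epi ((homologyFunctor X.Modules 0).map T.mor₂) :=
      (HomologySequence.epi_homologyMap_mor₂_iff T hT 0 1).2 ((h₁ 1 (by omega)).eq_of_tgt _ _)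
    haveI := isIso_of_mono_of_epi ((homologyFunctor X.Modules 0).map T.mor₂)
    exact (asIso ((homologyFunctor X.Modules 0).map T.mor₂)).symm ≪≫ e₂
  · let d := HomologySequence.δ T ((g : ℤ) - 1) g
    haveI : Mono d := (HomologySequence.exact₃ T hT ((g : ℤ) - 1) g).mono_g
      ((h₂ ((g : ℤ) - 1) (by omega)).eq_of_src _ _)
    haveI : Epi d := (HomologySequence.exact₁ T hT ((g : ℤ) - 1) g).epi_f
      ((h₂ (g : ℤ) (by omega)).eq_of_tgt _ _)
    exact @asIso _ _ _ _ d (isIso_of_mono_of_epi d) ≪≫ eg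
  · exact ShortComplex.Exact.isZero_X₂ (HomologySequence.exact₃ T hT p (p + 1))
      ((h₂ p hp0).eq_of_src _ _) ((h₁ (p + 1) (by omega)).eq_of_tgt _ _)

end Groth.Agent.Lib.H15.PointDual
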