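import Groth.Agent.H83.Duality.Basic
import Groth.Agent.H56.PointHom.Main
import Groth.Agent.Lib.H15.NearPt.Main
import Groth.Agent.Lib.RHomO.Main
import Groth.Agent.Lib.ExtShStalk.Vanish
import Groth.Agent.Lib.CohDelta.BC.Transpose
import Groth.Agent.S1005
import Groth.Prelude.Def_Models

/-!
# The dual of the skyscraper at a rational point of a regular scheme
-/

set_option autoImplicit false
set_option linter.style.haveILetI false
set_option linter.unusedSectionVars false

universe u

open CategoryTheory CategoryTheory.Limits AlgebraicGeometry DerivedCategory Opposite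

attribute [local instance] HasDerivedCategory.standard

namespace Groth.Agent.Lib.H15.PointDual

open Groth.Agent.Lib Groth.Agent.Lib.DerivedOX Groth.Agent.H83.Duality

variable {X : Scheme.{u}}

theorem isIso_unitToPush {Z : Scheme.{u}} (f : Z ⟶ X) [IsIso f] : IsIso (ClSub.unitToPush f) :=
  CohDelta.BC.Transpose.isIso_of_bijective_basis _ (Scheme.isBasis_affineOpens X) fun W _ =>
    (ConcreteCategory.bijective_of_isIso (f.app W) :)

/-- The dual computes `RHom(-, O)`. -/
theorem nonempty_dual_iso (r : Res X) (E : CochainComplex X.Modules ℤ) [DCoh.HasLTensorCx E]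
    [DCoh.HasRSheafHom E] :
    Nonempty ((dual r).obj (op (DerivedCategory.Q.obj E)) ≅
      (DCoh.RSheafHom E).obj (DCoh.inD X (Coh.structureModule X))) := by
  haveI := r.kinj
  haveI := r.qis
  let P := (KFlat.res X).obj E
  let a : P ⟶ E := (KFlat.aug X).app E
  haveI : QuasiIso a := KFlat.quasiIso_aug _
  obtain ⟨eK⟩ := DualCompare.nonempty_RSheafHom_iso (K := E) (KFlat.isKFlat_res E) a r.inj
  let eJ : DerivedCategory.Q.obj r.J ≅ DCoh.inD X (Coh.structureModule X) :=
    (asIso (DerivedCategory.Q.map r.ι)).symm ≪≫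
      ((DerivedCategory.singleFunctorIsoCompQ X.Modules 0).app _).symm
  exact ⟨(dual r).mapIso (asIso (DerivedCategory.Q.map a)).op ≪≫
    (dualFac r).app (op _) ≪≫ eK ≪≫ (DCoh.RSheafHom E).mapIso eJ⟩

/-- The dual is faithful on endomorphisms of perfect objects. -/
theorem dual_map_injective (r : Res X) {K : DCoh.D X} (hK : DCoh.IsPerfect K) {a b : K ⟶ K}
    (h : (dual r).map a.op = (dual r).map b.op) : a = b := by
  haveI := isIso_β r hK
  refine (cancel_mono ((β r).app K)).1 (((β r).naturality a).trans ?_)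
  refine Eq.trans ?_ ((β r).naturality b).symm
  exact congrArg (fun t => (β r).app K ≫ (dual r).map (Quiver.Hom.op t)) h

variable {k : Type u} [Field k] (i : Spec (CommRingCat.of k) ⟶ X) [IsClosedImmersion i]

set_option maxHeartbeats 1000000 in
/-- The skyscraper of a rational point is the direct image of the structure module of the point. -/
theorem exists_sky : ∃ x : X, IsClosed ({x} : Set X) ∧
    Nonempty (H56.PointHom.sky x ≅ (Scheme.Modules.pushforward i).obj (Coh.structureModule _)) := by
  obtain ⟨⟨x, φ⟩, rfl⟩ : ∃ p, (Scheme.SpecToEquivOfField k X).symm p = i :=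
    ⟨_, (Scheme.SpecToEquivOfField k X).symm_apply_apply i⟩
  have hi : IsClosedImmersion (Spec.map φ ≫ X.fromSpecResidueField x) := ‹_›
  have hx : IsClosed ({x} : Set X) := by
    have h : Set.range (Spec.map φ ≫ X.fromSpecResidueField x) = {x} := by
      refine Set.Subset.antisymm (fun y hy => ?_) ?_
      · obtain ⟨z, rfl⟩ := hy
        have hz : (Spec.map φ ≫ X.fromSpecResidueField x) z ∈ Set.range (X.fromSpecResidueField x) :=
          ⟨Spec.map φ z, (Scheme.Hom.comp_apply _ _ z).symm⟩
        rwa [Scheme.range_fromSpecResidueField] at hz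
      · obtain ⟨z⟩ : Nonempty (Spec (CommRingCat.of k)) := inferInstanceAs (Nonempty (PrimeSpectrum k))
        rintro _ rfl
        exact ⟨z, (Scheme.Hom.comp_apply _ _ z).trans (Scheme.fromSpecResidueField_apply _ _)⟩
    have hc := (Spec.map φ ≫ X.fromSpecResidueField x).isClosedEmbedding.isClosed_range
    rwa [h] at hc
  haveI := H56.PointHom.isClosedImmersion_from hx
  haveI := IsClosedImmersion.of_comp_isClosedImmersion (Spec.map φ) (X.fromSpecResidueField x)
  haveI : Subsingleton (Spec (X.residueField x)) :=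
    inferInstanceAs (Subsingleton (PrimeSpectrum (IsLocalRing.ResidueField (X.presheaf.stalk x))))
  haveI : Surjective (Spec.map φ) := ⟨fun y => by
    obtain ⟨z⟩ : Nonempty (Spec (CommRingCat.of k)) := inferInstanceAs (Nonempty (PrimeSpectrum k))
    exact ⟨z, Subsingleton.elim _ _⟩⟩
  haveI : _root_.IsReduced (X.residueField x) :=
    inferInstanceAs (_root_.IsReduced (IsLocalRing.ResidueField (X.presheaf.stalk x)))
  haveI : IsIso (Spec.map φ) := isIso_of_isClosedImmersion_of_surjective _
  haveI := isIso_unitToPush (Spec.map φ)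
  exact ⟨x, hx, ⟨(Scheme.Modules.pushforward (X.fromSpecResidueField x)).mapIso
    (asIso (ClSub.unitToPush (Spec.map φ))) ≪≫
      (Scheme.Modules.pushforwardComp (Spec.map φ) (X.fromSpecResidueField x)).app _⟩⟩

/-- A nonzero quasi-coherent module on the spectrum of a field with commuting endomorphisms is trivial. -/
theorem nonempty_iso_of_comm (M : (Spec (CommRingCat.of k)).Modules) (hM : M.IsQuasicoherent)
    (h0 : ¬ IsZero M) (hcomm : ∀ f g : M ⟶ M, f ≫ g = g ≫ f) :
    Nonempty (M ≅ Coh.structureModule (Spec (CommRingCat.of k))) := by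
  haveI := hM
  obtain ⟨V, ⟨e⟩⟩ : ∃ V : ModuleCat.{u} (CommRingCat.of k), Nonempty (tilde V ≅ M) :=
    ⟨_, ⟨QCoh.Tilde.isoTildeSections M⟩⟩
  have hV : ¬ Subsingleton V := fun h => h0 (((tilde.functor _).map_isZero
    (ModuleCat.isZero_of_subsingleton V)).of_iso e.symm)
  obtain ⟨v, hv⟩ := (not_subsingleton_iff_nontrivial.1 hV).exists_pair_ne.elim fun a ⟨b, hab⟩ =>
    (⟨a - b, sub_ne_zero.2 hab⟩ : ∃ v : V, v ≠ 0)
  have hc : ∀ f g : V →ₗ[k] V, g ∘ₗ f = f ∘ₗ g := by
    intro f g
    let T := tilde.functor (CommRingCat.of k)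
    let e' : T.obj V ≅ M := e
    let f' : V ⟶ V := ModuleCat.ofHom f
    let g' : V ⟶ V := ModuleCat.ofHom g
    have h := hcomm (e'.conj (T.map f')) (e'.conj (T.map g'))
    haveI : T.Faithful := (tilde.fullyFaithfulFunctor (R := CommRingCat.of k)).faithful
    have h2 : T.map f' ≫ T.map g' = T.map g' ≫ T.map f' :=
      e'.conj.injective ((e'.conj_comp _ _).trans (h.trans (e'.conj_comp _ _).symm))
    exact congrArg ModuleCat.Hom.hom (T.map_injective
      ((T.map_comp f' g').trans (h2.trans (T.map_comp g' f').symm)))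
  have hsurj : Function.Surjective (LinearMap.toSpanSingleton k V v) := by
    intro w
    by_contra hw
    have hli : LinearIndependent k ![v, w] :=
      (LinearIndependent.pair_iff' hv).2 fun a ha => hw ⟨a, ha⟩
    have hindep : LinearIndepOn k id (Set.range ![v, w]) := hli.linearIndepOn_id
    let b := Module.Basis.extend hindep
    have hvm : v ∈ hindep.extend (Set.subset_univ _) := hindep.subset_extend _ ⟨0, rfl⟩
    have hwm : w ∈ hindep.extend (Set.subset_univ _) := hindep.subset_extend _ ⟨1, rfl⟩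
    have hvw : v ≠ w := fun h => hw ⟨1, by simp [h]⟩
    classical
    let f := b.constr k fun z => if z.1 = w then v else 0
    let g := b.constr k fun z => if z.1 = v then v else 0
    have hbv : b ⟨v, hvm⟩ = v := Module.Basis.extend_apply_self hindep _
    have hbw : b ⟨w, hwm⟩ = w := Module.Basis.extend_apply_self hindep _
    have h1 : f v = 0 := by rw [← hbv, b.constr_basis]; simp [hvw]
    have h2 : f w = v := by rw [← hbw, b.constr_basis]; simp
    have h3 : g v = v := by rw [← hbv, b.constr_basis]; simp [hbv]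
    have h4 : g w = 0 := by rw [← hbw, b.constr_basis]; simp [Ne.symm hvw]
    have h5 := LinearMap.congr_fun (hc f g) w
    rw [LinearMap.comp_apply, LinearMap.comp_apply, h2, h3, h4, map_zero] at h5
    exact hv h5
  let l : k ≃ₗ[k] V := LinearEquiv.ofBijective _ ⟨smul_left_injective k hv, hsurj⟩
  exact ⟨e.symm ≪≫ (tilde.functor _).mapIso (l.symm.toModuleIso : V ≅ ModuleCat.of k k) ≪≫
    tildeSelf (R := CommRingCat.of k)⟩

section Main

variable [IsNoetherian X] (hreg : Models.IsRegularScheme X)

include hreg in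
theorem isPerfect_point : DCoh.IsPerfect
    (DCoh.inD X ((Scheme.Modules.pushforward i).obj (Coh.structureModule _))) := by
  exact Perfect.Regular.isPerfect_inD hreg
    (Cyc.Dev.SchemeEquiv.isCoh_push i (Snapper.Twist.isCoh_structureModule _))

set_option maxHeartbeats 1000000 in
/-- The dual of the skyscraper at a rational point is the skyscraper shifted by the local dimension. -/
theorem main (g : ℕ) (hd : ∀ x : X, IsClosed ({x} : Set X) → ringKrullDim (X.presheaf.stalk x) = g)
    (hreg : Models.IsRegularScheme X) (r : Res X) :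
    (∀ p : ℤ, p ≠ g → IsZero (DCoh.HD ((dual r).obj
      (op (DCoh.inD X ((Scheme.Modules.pushforward i).obj (Coh.structureModule _))))) p)) ∧
    Nonempty (DCoh.HD ((dual r).obj
      (op (DCoh.inD X ((Scheme.Modules.pushforward i).obj (Coh.structureModule _))))) g ≅
        (Scheme.Modules.pushforward i).obj (Coh.structureModule _)) := by
  obtain ⟨x, hx, ⟨s⟩⟩ := exists_sky i
  let O := Coh.structureModule (Spec (CommRingCat.of k))
  let κ := (Scheme.Modules.pushforward i).obj O
  let OX := Coh.structureModule X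
  haveI : IsRegularLocalRing (X.presheaf.stalk x) := hreg x
  haveI := RHomO.Main.preservesFiniteLimits_push i
  haveI := RHomO.Main.preservesFiniteColimits_push i
  haveI : Dual3.HasHomO i := PushClosed.Basic.pushforward_isLeftAdjoint i
  let E := RHomO.Derived.E₀ i
  haveI := LeftExists.hasLTensorCx E
  haveI := DualHomExists.hasRSheafHom E
  let hE : DCoh.toD X E ≅ DCoh.inD X κ :=
    ((DerivedCategory.singleFunctorIsoCompQ X.Modules 0).app _).symm
  obtain ⟨θ⟩ := RHomO.Derived.nonempty_RHom_iso i E hE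
  obtain ⟨ε⟩ := nonempty_dual_iso r E
  let G := (RHomO.Derived.RH i).obj (DCoh.inD X OX)
  let eV : (dual r).obj (op (DCoh.inD X κ)) ≅ (Dual3.pushD i).obj G :=
    (dual r).mapIso hE.op ≪≫ ε ≪≫ (θ.app _).symm
  haveI : (DCoh.inD X OX).IsGE 0 := inferInstance
  have hGc : DCoh.IsCohD G := RHomO.Main.isCohD_RH i _ (fun n => by
    by_cases hn : n = 0
    · subst hn
      exact CohBasics.Closure.isCoh_of_iso ((singleFunctorCompHomologyFunctorIso _ 0).app _).symm
        RefHull.Reflexive.isCoh_structure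
    · refine SchColim29.CohPush.isCoh_of_isZero ?_
      rcases lt_or_gt_of_ne hn with h | h
      · exact isZero_of_isGE _ 0 n h
      · exact isZero_of_isLE _ 0 n h) 0
  have hGq : DCoh.IsQCohD G := fun n => (hGc n).1
  have hzero : ∀ p : ℤ, p ≠ g → IsZero (DCoh.HD G p) := by
    intro p hp
    have h0 : ∀ φ : (singleFunctor X.Modules p).obj κ ⟶ (singleFunctor X.Modules 0).obj OX, φ = 0 := by
      intro φ
      refine (cancel_epi ((singleFunctor X.Modules p).map s.hom)).1 (Eq.trans ?_ comp_zero.symm)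
      rcases lt_or_ge p 0 with hneg | hpos
      · exact H56.PointHom.single_eq_zero_of_lt hneg _
      rcases lt_or_gt_of_ne hp with hlt | hgt
      · obtain ⟨q, rfl⟩ : ∃ q : ℕ, p = q := ⟨p.toNat, by omega⟩
        refine H56.ExtVanish.eq_zero_single q (by omega)
          ((H56.PointHom.subsingleton_ext_iff hx (H56.PointHom.isCoh_sky hx) (fun y hy n => ?_) q).2 ?_) _
        · haveI := H56.PointHom.subsingleton_stalk_sky hx hy
          exact H56.PointHom.subsingleton_ext_of_src _ _ n
        · have hle : ((g : ℕ) : ℕ∞) ≤ LocCoh.depth (X.presheaf.stalk x) (X.presheaf.stalk x) := by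
            have h := (ExtShStalk.Vanish.ringKrullDim_eq_depth (X.presheaf.stalk x)).symm.trans (hd x hx)
            exact (WithBot.coe_inj.1 h).ge
          haveI := (Depth.Ext.le_depth_iff_ext _ g).1 hle q (by omega)
          obtain ⟨e⟩ := H56.PointHom.nonempty_stalk_sky hx
          exact (ExtLin.Congr.extCongr (X.presheaf.stalk x) e.toModuleIso
            (BettiExact.TorComp.stalkUnitEquiv X x).toModuleIso q).toEquiv.subsingleton
      · exact H56.PointHom.hom_from_sky_eq_zero hx (hd x hx) (Or.inr (by omega)) _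
    have h1 : ∀ ψ : (singleFunctor _ p).obj O ⟶ G, ψ = 0 := by
      intro ψ
      refine ((RHomO.Derived.adjRH i).homEquiv _ _).symm.injective ?_
      refine (cancel_epi (((Scheme.Modules.pushforward i).mapDerivedCategorySingleFunctor p).app O).inv).1 ?_
      exact (h0 _).trans (h0 _).symm
    let G' := G⟦p⟧
    have hq : DCoh.IsQCohD G' := fun n => (WayOut.Scheme.qc _).prop_of_iso
      (((DerivedCategory.homologyFunctor _ 0).shiftIso p n (p + n) rfl).app G).symm (hGq (p + n))
    refine (H15.NearPt.Main.isZero_HD_zero G' hq fun φ => ?_).of_iso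
      (((DerivedCategory.homologyFunctor _ 0).shiftIso p 0 p (add_zero p)).app G).symm
    let a := ((DerivedCategory.singleFunctors (Spec (CommRingCat.of k)).Modules).shiftIso p 0 p (add_zero p)).app O
    obtain ⟨ψ, hψ⟩ := (shiftFunctor (DCoh.D (Spec (CommRingCat.of k))) p).map_surjective (a.hom ≫ φ)
    rw [h1 ψ, Functor.map_zero] at hψ
    exact (cancel_epi a.hom).1 (hψ.symm.trans comp_zero.symm)
  haveI : G.IsGE g := (isGE_iff G g).2 fun n hn => hzero n (by omega)
  haveI : G.IsLE g := (isLE_iff G g).2 fun n hn => hzero n (by omega)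
  obtain ⟨Y, ⟨eG⟩⟩ := exists_iso_singleFunctor_obj_of_isGE_of_isLE G (g : ℤ)
  let eW : (dual r).obj (op (DCoh.inD X κ)) ≅
      (singleFunctor X.Modules (g : ℤ)).obj ((Scheme.Modules.pushforward i).obj Y) :=
    eV ≪≫ (Dual3.pushD i).mapIso eG ≪≫
      ((Scheme.Modules.pushforward i).mapDerivedCategorySingleFunctor (g : ℤ)).app Y
  let eY : DCoh.HD G g ≅ Y := (homologyFunctor _ (g : ℤ)).mapIso eG ≪≫
    (singleFunctorCompHomologyFunctorIso _ (g : ℤ)).app Y
  have hYq : Y.IsQuasicoherent := (WayOut.Scheme.qc _).prop_of_iso eY (hGq g)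
  have hY0 : ¬ IsZero Y := by
    intro hY
    have hG : IsZero G := ((singleFunctor _ (g : ℤ)).map_isZero hY).of_iso eG
    obtain ⟨φ, hφ⟩ := H56.PointHom.exists_hom_from_sky hx (hd x hx) (M := OX)
      RefHull.Reflexive.isCoh_structure (fun hsub => not_subsingleton (X.presheaf.stalk x)
        ((BettiExact.TorComp.stalkUnitEquiv X x).toEquiv.subsingleton_congr.1 hsub)) 0
    apply hφ
    let c := (singleFunctor X.Modules (0 + (g : ℤ))).mapIso s
    refine (cancel_epi c.inv).1 (Eq.trans ?_ comp_zero.symm)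
    refine (cancel_epi (((Scheme.Modules.pushforward i).mapDerivedCategorySingleFunctor (0 + (g : ℤ))).app O).hom).1
      (Eq.trans ?_ comp_zero.symm)
    refine ((RHomO.Derived.adjRH i).homEquiv _ _).injective ?_
    exact hG.eq_of_tgt _ _
  haveI hff : (Scheme.Modules.pushforward i).Full ∧ (Scheme.Modules.pushforward i).Faithful := by
    haveI : ∀ N, IsIso ((Scheme.Modules.pullbackPushforwardAdjunction i).counit.app N) :=
      fun N => Cyc.Dev.SchemeCase.isIso_counit i N
    haveI : IsIso (Scheme.Modules.pullbackPushforwardAdjunction i).counit :=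
      NatIso.isIso_of_isIso_app _
    exact ⟨(Scheme.Modules.pullbackPushforwardAdjunction i).fullyFaithfulROfIsIsoCounit.full,
      (Scheme.Modules.pullbackPushforwardAdjunction i).fullyFaithfulROfIsIsoCounit.faithful⟩
  haveI := hff.1
  haveI := hff.2
  have hO : ∀ f₁ f₂ : O ⟶ O, f₁ ≫ f₂ = f₂ ≫ f₁ := by
    let t : tilde (ModuleCat.of k k) ≅ O := tildeSelf (R := CommRingCat.of k)
    haveI : (tilde.functor (CommRingCat.of k)).Full := (tilde.fullyFaithfulFunctor (R := CommRingCat.of k)).full
    intro f₁ f₂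
    obtain ⟨u₁, hu₁⟩ := (tilde.functor (CommRingCat.of k)).map_surjective (t.hom ≫ f₁ ≫ t.inv)
    obtain ⟨u₂, hu₂⟩ := (tilde.functor (CommRingCat.of k)).map_surjective (t.hom ≫ f₂ ≫ t.inv)
    have hu : u₁ ≫ u₂ = u₂ ≫ u₁ := by
      refine ModuleCat.hom_ext (LinearMap.ext_ring ?_)
      change u₂.hom (u₁.hom 1) = u₁.hom (u₂.hom 1)
      conv_lhs => rw [← mul_one (u₁.hom 1), ← smul_eq_mul, map_smul]
      conv_rhs => rw [← mul_one (u₂.hom 1), ← smul_eq_mul, map_smul]
      exact mul_comm _ _
    let T := tilde.functor (CommRingCat.of k)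
    let t' : T.obj (ModuleCat.of k k) ≅ O := t
    refine t'.symm.conj.injective ((t'.symm.conj_comp f₁ f₂).trans ?_)
    refine Eq.trans ?_ (t'.symm.conj_comp f₂ f₁).symm
    change (t'.hom ≫ f₁ ≫ t'.inv) ≫ (t'.hom ≫ f₂ ≫ t'.inv) =
      (t'.hom ≫ f₂ ≫ t'.inv) ≫ (t'.hom ≫ f₁ ≫ t'.inv)
    exact ((congrArg₂ (· ≫ ·) hu₁ hu₂).symm.trans (T.map_comp u₁ u₂).symm).trans
      ((congrArg T.map hu).trans ((T.map_comp u₂ u₁).trans (congrArg₂ (· ≫ ·) hu₂ hu₁)))
  have hκ : ∀ a b : DCoh.inD X κ ⟶ DCoh.inD X κ, a ≫ b = b ≫ a := by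
    intro a b
    obtain ⟨a', rfl⟩ := (singleFunctor X.Modules 0).map_surjective a
    obtain ⟨b', rfl⟩ := (singleFunctor X.Modules 0).map_surjective b
    obtain ⟨a'', rfl⟩ := (Scheme.Modules.pushforward i).map_surjective a'
    obtain ⟨b'', rfl⟩ := (Scheme.Modules.pushforward i).map_surjective b'
    rw [← Functor.map_comp, ← Functor.map_comp, ← Functor.map_comp, ← Functor.map_comp, hO]
  have hp := isPerfect_point i hreg
  have hVp := isPerfect_dual r hp
  haveI := isIso_β r hp
  have hcomm : ∀ f₁ f₂ : Y ⟶ Y, f₁ ≫ f₂ = f₂ ≫ f₁ := by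
    intro f₁ f₂
    let V := (dual r).obj (op (DCoh.inD X κ))
    let F := Scheme.Modules.pushforward i ⋙ singleFunctor X.Modules (g : ℤ)
    let a : V ⟶ V := eW.hom ≫ F.map f₁ ≫ eW.inv
    let b : V ⟶ V := eW.hom ≫ F.map f₂ ≫ eW.inv
    let B : DCoh.inD X κ ≅ (dual r).obj (op V) := asIso ((β r).app (DCoh.inD X κ))
    have hW : ∀ u v : (dual r).obj (op V) ⟶ (dual r).obj (op V), u ≫ v = v ≫ u := fun u v => by
      have h := hκ (B.hom ≫ u ≫ B.inv) (B.hom ≫ v ≫ B.inv)
      simp only [Category.assoc, Iso.inv_hom_id_assoc] at h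
      exact (cancel_mono B.inv).1 (by simpa only [Category.assoc] using (cancel_epi B.hom).1 h)
    have h : a ≫ b = b ≫ a := dual_map_injective r hVp
      (((dual r).map_comp b.op a.op).trans ((hW _ _).trans ((dual r).map_comp a.op b.op).symm))
    simp only [a, b, Category.assoc, Iso.inv_hom_id_assoc] at h
    have h' : F.map f₁ ≫ F.map f₂ = F.map f₂ ≫ F.map f₁ :=
      (cancel_mono eW.inv).1 (by simpa only [Category.assoc] using (cancel_epi eW.hom).1 h)
    rw [← Functor.map_comp, ← Functor.map_comp] at h'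
    exact F.map_injective h'
  obtain ⟨eO⟩ := nonempty_iso_of_comm Y hYq hY0 hcomm
  refine ⟨fun p hp' => ?_, ⟨(homologyFunctor _ (g : ℤ)).mapIso eW ≪≫
    (singleFunctorCompHomologyFunctorIso _ (g : ℤ)).app _ ≪≫ (Scheme.Modules.pushforward i).mapIso eO⟩⟩
  obtain ⟨e⟩ := RHomO.Main.nonempty_HD_pushD i G p
  exact ((Scheme.Modules.pushforward i).map_isZero (hzero p hp')).of_iso
    ((homologyFunctor _ p).mapIso eV ≪≫ e)

end Main

end Groth.Agent.Lib.H15.PointDual
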